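import Cfsg.Agent.H226.Tall.Defs
import Cfsg.Agent.S2508
import Cfsg.Agent.H798.PSLDih
import Cfsg.Agent.SmallSimple.PSLTwoPart

/-!
# S2927: the row `PSL₂(q)`, `q ≥ 11` odd
-/

set_option autoImplicit false
set_option linter.style.haveILetI false

namespace Cfsg.Agent.H585.TL

open Subgroup Cfsg Cfsg.Agent.H226.Tall
open Cfsg.Agent.H239.CharPLocal (CP)

universe u v

/-! ### Characteristic 2 and an abelian subgroup of index two -/

theorem twoGroup_of_cp {H : Type u} [Group H] [Finite H] (A : Subgroup H) [A.Normal]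
    (hA : ∀ a ∈ A, ∀ b ∈ A, a * b = b * a) (hs : ∀ x : H, x * x ∈ A) (h : CP 2 H) : IsPGroup 2 H := by
  haveI : Fact (Nat.Prime 2) := ⟨Nat.prime_two⟩
  have key : ∀ p : ℕ, p.Prime → p ∣ Nat.card H → p = 2 := by
    intro p hp hd
    by_contra hne
    haveI := Fact.mk hp
    obtain ⟨x, hx⟩ := exists_prime_orderOf_dvd_card' (G := H) p hd
    have hodd : Odd p := hp.odd_of_ne_two hne
    have hxp : x ^ p = 1 := hx ▸ pow_orderOf_eq_one x
    have hxA : x ∈ A := by
      obtain ⟨k, hk⟩ := hodd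
      have h1 : (x * x) ^ (k + 1) = x := by
        rw [← pow_two, ← pow_mul, show 2 * (k + 1) = p + 1 by omega, pow_succ, hxp, one_mul]
      rw [← h1]
      exact A.pow_mem (hs x) _
    have hP : IsPGroup 2 ↥(pCore 2 H) := Cfsg.Agent.Lib.Cores.pCore_isPGroup 2
    have hcomm : ∀ t ∈ pCore 2 H, t * x = x * t := by
      intro t ht
      have e1 : (x * (t * x⁻¹ * t⁻¹)) ^ p = 1 := by
        have h1 : t * x⁻¹ * t⁻¹ ∈ A := (inferInstance : A.Normal).conj_mem _ (A.inv_mem hxA) t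
        have h2 : Commute x (t * x⁻¹ * t⁻¹) := hA _ hxA _ h1
        rw [h2.mul_pow, hxp, one_mul, conj_pow, inv_pow, hxp, inv_one, mul_one, mul_inv_cancel]
      have e2 : x * (t * x⁻¹ * t⁻¹) ∈ pCore 2 H := by
        have h1 : x * (t * x⁻¹ * t⁻¹) = (x * t * x⁻¹) * t⁻¹ := by group
        rw [h1]
        exact mul_mem ((inferInstance : (pCore 2 H).Normal).conj_mem _ ht x) (inv_mem ht)
      obtain ⟨k, hk⟩ := hP ⟨_, e2⟩
      have e3 : (x * (t * x⁻¹ * t⁻¹)) ^ 2 ^ k = 1 := congrArg Subtype.val hk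
      have e4 : orderOf (x * (t * x⁻¹ * t⁻¹)) ∣ Nat.gcd p (2 ^ k) :=
        Nat.dvd_gcd (orderOf_dvd_of_pow_eq_one e1) (orderOf_dvd_of_pow_eq_one e3)
      have e5 : Nat.gcd p (2 ^ k) = 1 :=
        Nat.Coprime.pow_right k (Nat.coprime_two_right.2 hodd)
      rw [e5, Nat.dvd_one, orderOf_eq_one_iff] at e4
      have e6 : x * t = t * x := by
        calc x * t = (x * (t * x⁻¹ * t⁻¹)) * t * x := by group
          _ = t * x := by rw [e4, one_mul]
      exact e6.symm
    have h1 : x ∈ pCore 2 H := h (mem_centralizer_iff.2 hcomm)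
    obtain ⟨k, hk⟩ := hP ⟨_, h1⟩
    have h2 : x ^ 2 ^ k = 1 := congrArg Subtype.val hk
    have h3 : p ∣ 2 ^ k := hx ▸ orderOf_dvd_of_pow_eq_one h2
    exact hne ((Nat.prime_dvd_prime_iff_eq hp Nat.prime_two).1 (hp.dvd_of_dvd_pow h3))
  have h0 : Nat.card H ≠ 0 := Nat.card_pos.ne'
  exact IsPGroup.of_card (Nat.eq_prime_pow_of_unique_prime_dvd h0 fun hp hd => key _ hp hd)

/-! ### Matrices commuting with a matrix -/

section mat

variable {F : Type v} [Field F]

open Matrix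

theorem comm_two {A B C : Matrix (Fin 2) (Fin 2) F} (hA : ¬ (A 0 1 = 0 ∧ A 1 0 = 0 ∧ A 0 0 = A 1 1))
    (hB : A * B = B * A) (hC : A * C = C * A) : B * C = C * B := by
  have hb := fun i j => congrFun (congrFun hB i) j
  have hc := fun i j => congrFun (congrFun hC i) j
  have b00 := hb 0 0
  have b01 := hb 0 1
  have b10 := hb 1 0
  have c00 := hc 0 0
  have c01 := hc 0 1
  have c10 := hc 1 0
  simp only [Matrix.mul_apply, Fin.sum_univ_two] at b00 b01 b10 c00 c01 c10
  have key : (A 0 1 ≠ 0 ∨ A 1 0 ≠ 0 ∨ A 0 0 - A 1 1 ≠ 0) := by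
    by_contra hcon
    push Not at hcon
    exact hA ⟨hcon.1, hcon.2.1, sub_eq_zero.1 hcon.2.2⟩
  have e1 : B 0 1 * C 1 0 = C 0 1 * B 1 0 := by
    rcases key with h | h | h
    · apply mul_left_cancel₀ h
      linear_combination B 0 1 * c00 - C 0 1 * b00
    · apply mul_left_cancel₀ h
      linear_combination B 1 0 * c00 - C 1 0 * b00
    · apply mul_left_cancel₀ h
      apply mul_left_cancel₀ h
      linear_combination (A 0 0 - A 1 1) * C 1 0 * b01 - A 0 1 * (B 0 0 - B 1 1) * c10 -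
        (A 0 0 - A 1 1) * B 1 0 * c01 + A 0 1 * (C 0 0 - C 1 1) * b10
  have e2 : (B 0 0 - B 1 1) * C 0 1 = (C 0 0 - C 1 1) * B 0 1 := by
    rcases key with h | h | h
    · apply mul_left_cancel₀ h
      linear_combination B 0 1 * c01 - C 0 1 * b01
    · apply mul_left_cancel₀ h
      linear_combination C 0 1 * b10 - B 0 1 * c10 - (A 0 0 - A 1 1) * e1
    · apply mul_left_cancel₀ h
      linear_combination (B 0 0 - B 1 1) * c01 - (C 0 0 - C 1 1) * b01
  have e3 : (B 0 0 - B 1 1) * C 1 0 = (C 0 0 - C 1 1) * B 1 0 := by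
    rcases key with h | h | h
    · apply mul_left_cancel₀ h
      linear_combination B 1 0 * c01 - C 1 0 * b01 + (A 0 0 - A 1 1) * e1
    · apply mul_left_cancel₀ h
      linear_combination C 1 0 * b10 - B 1 0 * c10
    · apply mul_left_cancel₀ h
      linear_combination (C 0 0 - C 1 1) * b10 - (B 0 0 - B 1 1) * c10
  ext i j
  fin_cases i <;> fin_cases j <;>
    simp only [Matrix.mul_apply, Fin.sum_univ_two, Fin.zero_eta, Fin.mk_one]
  · linear_combination e1
  · linear_combination e2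
  · linear_combination -e3
  · linear_combination -e1

end mat

/-! ### Centralizers of involutions -/

section psl

open Matrix

variable {F : Type v} [Field F]

local notation "SL2" => Matrix.SpecialLinearGroup (Fin 2) F
local notation "PL" => Matrix.ProjectiveSpecialLinearGroup (Fin 2) F

theorem comm_sl {A B C : SL2} (hA : A ∉ center SL2) (hB : B * A = A * B) (hC : C * A = A * C) : B * C = C * B := by
  have hB' : (A : Matrix (Fin 2) (Fin 2) F) * B = B * A := (congrArg Subtype.val hB).symm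
  have hC' : (A : Matrix (Fin 2) (Fin 2) F) * C = C * A := (congrArg Subtype.val hC).symm
  refine Subtype.ext (comm_two (A := (A : Matrix (Fin 2) (Fin 2) F)) ?_ hB' hC')
  rintro ⟨h1, h2, h3⟩
  apply hA
  rw [mem_center_iff]
  intro g
  apply Subtype.ext
  change (g : Matrix (Fin 2) (Fin 2) F) * (A : Matrix (Fin 2) (Fin 2) F) =
    (A : Matrix (Fin 2) (Fin 2) F) * (g : Matrix (Fin 2) (Fin 2) F)
  ext i j
  fin_cases i <;> fin_cases j <;>
    simp [Matrix.mul_apply, Fin.sum_univ_two, h1, h2, h3, mul_comm]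

theorem center_sq {A : SL2} (hA : A ∈ center SL2) : A * A = 1 := by
  obtain ⟨r, hr, h⟩ := Matrix.SpecialLinearGroup.mem_center_iff.1 hA
  apply Subtype.ext
  change (A : Matrix (Fin 2) (Fin 2) F) * (A : Matrix (Fin 2) (Fin 2) F) = 1
  rw [← h, ← map_mul]
  rw [Fintype.card_fin, pow_two] at hr
  rw [hr, map_one]

/-- The centralizer of an involution of `PSL₂(F)` has an abelian subgroup of index at most two. -/
theorem exists_abelian {z : PL} (hz : z ≠ 1) : ∃ A : Subgroup ↥(centralizer ({z} : Set PL)), A.Normal ∧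
    (∀ a ∈ A, ∀ b ∈ A, a * b = b * a) ∧ ∀ x, x * x ∈ A := by
  obtain ⟨Z, rfl⟩ := QuotientGroup.mk_surjective z
  have hZ : Z ∉ center SL2 := fun h => hz ((QuotientGroup.eq_one_iff Z).2 h)
  -- commuting in the quotient
  have hcom : ∀ B : SL2, (QuotientGroup.mk B : PL) ∈ centralizer ({(QuotientGroup.mk Z : PL)} : Set PL) ↔
      ∃ c ∈ center SL2, B * Z = c * (Z * B) := by
    intro B
    rw [mem_centralizer_singleton_iff]
    constructor
    · intro h
      rw [← QuotientGroup.mk_mul, ← QuotientGroup.mk_mul, eq_comm, QuotientGroup.eq] at h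
      refine ⟨(Z * B)⁻¹ * (B * Z), h, ?_⟩
      rw [← mem_center_iff.1 h (Z * B)]
      group
    · rintro ⟨c, hc, h⟩
      rw [← QuotientGroup.mk_mul, h, QuotientGroup.mk_mul, (QuotientGroup.eq_one_iff c).2 hc, one_mul,
        QuotientGroup.mk_mul]
  let A : Subgroup ↥(centralizer ({(QuotientGroup.mk Z : PL)} : Set PL)) :=
    ((centralizer ({Z} : Set SL2)).map (QuotientGroup.mk' (center SL2))).subgroupOf _
  have hA : ∀ x : ↥(centralizer ({(QuotientGroup.mk Z : PL)} : Set PL)), x ∈ A ↔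
      ∃ B : SL2, B * Z = Z * B ∧ (QuotientGroup.mk B : PL) = x := by
    intro x
    constructor
    · rintro ⟨B, hB, h⟩
      exact ⟨B, mem_centralizer_singleton_iff.1 hB, h⟩
    · rintro ⟨B, hB, h⟩
      exact ⟨B, mem_centralizer_singleton_iff.2 hB, h⟩
  refine ⟨A, ⟨fun a ha g => ?_⟩, fun a ha b hb => ?_, fun x => ?_⟩
  · obtain ⟨B, hB, h⟩ := (hA a).1 ha
    obtain ⟨D, hD⟩ := QuotientGroup.mk_surjective (g : PL)
    obtain ⟨c, hc, hcD⟩ := (hcom D).1 (by rw [hD]; exact g.2)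
    refine (hA _).2 ⟨D * B * D⁻¹, ?_, ?_⟩
    · have hcc : ∀ y : SL2, y * c = c * y := fun y => mem_center_iff.1 hc y
      have e1 : D⁻¹ * Z = c * (Z * D⁻¹) := by
        have hcD' : Z * D = c * (D * Z) := by
          rw [hcD, ← mul_assoc, center_sq hc, one_mul]
        calc D⁻¹ * Z = D⁻¹ * (Z * D) * D⁻¹ := by group
          _ = D⁻¹ * (c * (D * Z)) * D⁻¹ := by rw [hcD']
          _ = D⁻¹ * c * (D * Z) * D⁻¹ := by group
          _ = c * (Z * D⁻¹) := by rw [hcc D⁻¹]; group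
      calc D * B * D⁻¹ * Z = D * B * (D⁻¹ * Z) := by group
        _ = D * B * (c * (Z * D⁻¹)) := by rw [e1]
        _ = D * B * c * (Z * D⁻¹) := by group
        _ = c * (D * (B * Z) * D⁻¹) := by rw [hcc (D * B)]; group
        _ = c * ((D * Z) * B * D⁻¹) := by rw [hB]; group
        _ = c * c * (Z * (D * B * D⁻¹)) := by rw [hcD]; group
        _ = Z * (D * B * D⁻¹) := by rw [center_sq hc, one_mul]
    · rw [QuotientGroup.mk_mul, QuotientGroup.mk_mul, QuotientGroup.mk_inv, h, hD]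
      rfl
  · obtain ⟨B, hB, h⟩ := (hA a).1 ha
    obtain ⟨C, hC, h'⟩ := (hA b).1 hb
    apply Subtype.ext
    rw [Subgroup.coe_mul, Subgroup.coe_mul, ← h, ← h', ← QuotientGroup.mk_mul, ← QuotientGroup.mk_mul,
      comm_sl hZ hB hC]
  · obtain ⟨D, hD⟩ := QuotientGroup.mk_surjective (x : PL)
    obtain ⟨c, hc, hcD⟩ := (hcom D).1 (by rw [hD]; exact x.2)
    refine (hA _).2 ⟨D * D, ?_, ?_⟩
    · have hcc : ∀ y : SL2, y * c = c * y := fun y => mem_center_iff.1 hc y
      calc D * D * Z = D * (D * Z) := by group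
        _ = D * (c * (Z * D)) := by rw [hcD]
        _ = D * c * Z * D := by group
        _ = c * (D * Z) * D := by rw [hcc D]; group
        _ = c * c * (Z * (D * D)) := by rw [hcD]; group
        _ = Z * (D * D) := by rw [center_sq hc, one_mul]
    · rw [QuotientGroup.mk_mul, hD]
      rfl

theorem twoGroup_centralizer [Finite F] {z : PL} (hz : z ≠ 1) (h : CP 2 ↥(centralizer ({z} : Set PL))) :
    IsPGroup 2 ↥(centralizer ({z} : Set PL)) := by
  haveI : Finite SL2 := Subtype.finite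
  obtain ⟨A, hA, h1, h2⟩ := exists_abelian hz
  exact twoGroup_of_cp A h1 h2 h

theorem card_cent [Fintype F] (ho : Odd (Fintype.card F)) (h11 : 11 ≤ Fintype.card F) {z : PL} (P : Sylow 2 PL)
    (hP : (P : Subgroup PL) ≤ centralizer ({z} : Set PL)) (h2 : IsPGroup 2 ↥(centralizer ({z} : Set PL))) :
    16 ≤ Nat.card ↥(centralizer ({z} : Set PL)) ∧ 16 ∣ Fintype.card F ^ 2 - 1 := by
  classical
  haveI : Fact (Nat.Prime 2) := ⟨Nat.prime_two⟩
  haveI : Finite SL2 := Subtype.finite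
  haveI : Finite PL := inferInstanceAs (Finite (_ ⧸ _))
  have hidx : ¬ 2 ∣ (centralizer ({z} : Set PL)).index := fun h =>
    P.not_dvd_index (h.trans (index_dvd_of_le hP))
  obtain ⟨m, hm⟩ := IsPGroup.iff_card.1 h2
  have hcard := Cfsg.Agent.SmallSimple.PSLTwoPart.card_psl_two_odd (F := F) ho
  rw [← card_mul_index (centralizer ({z} : Set PL))] at hcard
  obtain ⟨r1, r3⟩ := Cfsg.Agent.S2508.result (F := F) (by
    rw [← even_iff_two_dvd, Nat.not_even_iff_odd]; exact ho) (by omega)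
  have hmem : (centralizer ({z} : Set PL)).index ∈
      Set.range (fun g : PL => (centralizer ({g} : Set PL)).index) := ⟨z, rfl⟩
  obtain ⟨t, ht⟩ := ho
  generalize Fintype.card F = q at *
  generalize (centralizer ({z} : Set PL)).index = I at *
  generalize Nat.card ↥(centralizer ({z} : Set PL)) = N at *
  subst ht
  subst hm
  have hsq : (2 * t + 1) ^ 2 - 1 = 4 * (t * (t + 1)) := by
    have : (2 * t + 1) ^ 2 = 4 * (t * (t + 1)) + 1 := by ring
    omega
  rw [hsq] at hcard r1 r3 ⊢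
  have hcard' : 2 ^ m * I = 2 * ((2 * t + 1) * (t * (t + 1))) := by
    have : 2 * (2 ^ m * I) = 2 * (2 * ((2 * t + 1) * (t * (t + 1)))) := by rw [hcard]; ring
    omega
  -- the index is not one
  have hI1 : I ≠ 1 := by
    rintro rfl
    have h1 : (2 * t + 1) ∣ 2 ^ m := ⟨2 * (t * (t + 1)), by rw [← mul_one (2 ^ m), hcard']; ring⟩
    have h2 : Nat.Coprime (2 * t + 1) (2 ^ m) :=
      Nat.Coprime.pow_right m (Nat.coprime_two_right.2 ⟨t, rfl⟩)
    have := Nat.eq_one_of_dvd_coprimes h2 dvd_rfl h1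
    omega
  have key : ∀ s : ℕ, 0 < s → 10 ≤ 2 * s → 2 * s ∣ 4 * (t * (t + 1)) → 2 ^ m * I = 2 * s * I →
      16 ≤ 2 ^ m ∧ 16 ∣ 4 * (t * (t + 1)) := by
    intro s hs h10 hd hI
    have hIpos : 0 < I := by
      rcases Nat.eq_zero_or_pos I with h | h
      · exact absurd (h ▸ dvd_zero 2) hidx
      · exact h
    have h2m : 2 ^ m = 2 * s := Nat.eq_of_mul_eq_mul_right hIpos hI
    have hm4 : 4 ≤ m := by
      by_contra hcon
      have : 2 ^ m ≤ 2 ^ 3 := Nat.pow_le_pow_right (by norm_num) (by omega)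
      omega
    have h16 : 16 ∣ 2 ^ m := by
      have := Nat.pow_dvd_pow 2 hm4
      simpa using this
    refine ⟨?_, ?_⟩
    · exact Nat.le_of_dvd (by positivity) h16
    · rw [h2m] at h16
      exact h16.trans hd
  have hmod : (2 * t + 1) % 4 = 1 ∨ (2 * t + 1) % 4 = 3 := by omega
  rcases hmod with hmod | hmod
  · have h := (r1 hmod) ▸ hmem
    simp only [Set.mem_insert_iff, Set.mem_singleton_iff] at h
    rcases h with h | h | h | h | h
    · exact absurd h hI1
    · exfalso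
      apply hidx
      rw [h]
      exact ⟨t * (t + 1), by omega⟩
    · refine key t (by omega) (by omega) ⟨2 * (t + 1), by ring⟩ ?_
      have e1 : (2 * t + 1) * (2 * t + 1 + 1) / 2 = (2 * t + 1) * (t + 1) := by
        rw [show (2 * t + 1) * (2 * t + 1 + 1) = 2 * ((2 * t + 1) * (t + 1)) by ring]
        exact Nat.mul_div_cancel_left _ (by norm_num)
      rw [hcard', h, e1]
      ring
    · exfalso
      apply hidx
      rw [h]
      exact ⟨(2 * t + 1) * t, by rw [Nat.add_sub_cancel]; ring⟩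
    · exfalso
      apply hidx
      rw [h]
      exact ⟨(2 * t + 1) * (t + 1), by ring⟩
  · have h := (r3 hmod) ▸ hmem
    simp only [Set.mem_insert_iff, Set.mem_singleton_iff] at h
    rcases h with h | h | h | h | h
    · exact absurd h hI1
    · exfalso
      apply hidx
      rw [h]
      exact ⟨t * (t + 1), by omega⟩
    · refine key (t + 1) (by omega) (by omega) ⟨2 * t, by ring⟩ ?_
      have e1 : (2 * t + 1) * (2 * t + 1 - 1) / 2 = (2 * t + 1) * t := by
        rw [Nat.add_sub_cancel, show (2 * t + 1) * (2 * t) = 2 * ((2 * t + 1) * t) by ring]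
        exact Nat.mul_div_cancel_left _ (by norm_num)
      rw [hcard', h, e1]
      ring
    · exfalso
      apply hidx
      rw [h]
      exact ⟨(2 * t + 1) * (t + 1), by ring⟩
    · exfalso
      apply hidx
      rw [h]
      exact ⟨(2 * t + 1) * t, by rw [Nat.add_sub_cancel]; ring⟩

/-- The Sylow subgroup is dihedral of order at least 16 -/
theorem dihedral_psl [Fintype F] (ho : Odd (Fintype.card F)) (h11 : 11 ≤ Fintype.card F) {z : PL} (P : Sylow 2 PL)
    (hP : (P : Subgroup PL) ≤ centralizer ({z} : Set PL)) (h2 : IsPGroup 2 ↥(centralizer ({z} : Set PL))) :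
    ∃ k : ℕ, 3 ≤ k ∧ Nonempty (↥(P : Subgroup PL) ≃* DihedralGroup (2 ^ k)) := by
  haveI : Finite SL2 := Subtype.finite
  haveI : Finite PL := inferInstanceAs (Finite (_ ⧸ _))
  obtain ⟨h1, h3⟩ := card_cent ho h11 P hP h2
  obtain ⟨k, hk, ⟨e⟩⟩ := Cfsg.Agent.H798.psl_two_dihedral (F := F) (Nat.odd_iff.1 ho) h3 P
  refine ⟨k, ?_, ⟨e⟩⟩
  have hPe : centralizer ({z} : Set PL) = (P : Subgroup PL) := P.3 h2 hP
  rw [hPe, Nat.card_congr e.toEquiv, DihedralGroup.nat_card] at h1
  by_contra hcon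
  have : 2 ^ k ≤ 2 ^ 2 := Nat.pow_le_pow_right (by norm_num) (by omega)
  omega

end psl

/-! ### Dihedral groups -/

section dih

theorem dih_no_sr {k : ℕ} (hk : 3 ≤ k) (W : Subgroup (DihedralGroup (2 ^ k))) [W.Normal] (h : ∀ w ∈ W, w * w = 1)
    (i : ZMod (2 ^ k)) : DihedralGroup.sr i ∉ W := by
  intro hi
  have h1 : DihedralGroup.r 1 * DihedralGroup.sr i * (DihedralGroup.r 1)⁻¹ ∈ W :=
    (inferInstance : W.Normal).conj_mem _ hi _
  have h2 := W.mul_mem h1 hi
  have h3 := h _ h2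
  rw [DihedralGroup.r_mul_sr, DihedralGroup.inv_r, DihedralGroup.sr_mul_r, DihedralGroup.sr_mul_sr,
    DihedralGroup.r_mul_r, DihedralGroup.one_def, DihedralGroup.r.injEq] at h3
  have h4 : ((4 : ℕ) : ZMod (2 ^ k)) = 0 := by
    push_cast
    linear_combination h3
  rw [ZMod.natCast_eq_zero_iff] at h4
  have h5 := Nat.le_of_dvd (by norm_num) h4
  have h6 : 2 ^ 3 ≤ 2 ^ k := Nat.pow_le_pow_right (by norm_num) hk
  omega

theorem zmod_half {k : ℕ} (hk : 1 ≤ k) {i : ZMod (2 ^ k)} (h : i + i = 0) : i = 0 ∨ i = ((2 ^ (k - 1) : ℕ) : ZMod (2 ^ k)) := by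
  haveI : NeZero (2 ^ k) := ⟨by positivity⟩
  obtain ⟨j, hj, rfl⟩ : ∃ j : ℕ, j < 2 ^ k ∧ ((j : ℕ) : ZMod (2 ^ k)) = i :=
    ⟨i.val, i.val_lt, ZMod.natCast_zmod_val i⟩
  rw [← Nat.cast_add, ZMod.natCast_eq_zero_iff] at h
  have h2 : 2 ^ k = 2 * 2 ^ (k - 1) := by
    rw [← pow_succ']
    congr 1
    omega
  rw [h2] at h hj
  rw [← two_mul] at h
  have h3 : 2 ^ (k - 1) ∣ j := Nat.dvd_of_mul_dvd_mul_left (by norm_num) h
  obtain ⟨c, rfl⟩ := h3
  have hc : c < 2 := by
    by_contra hcon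
    have : 2 ^ (k - 1) * 2 ≤ 2 ^ (k - 1) * c := Nat.mul_le_mul_left _ (by omega)
    omega
  interval_cases c
  · left; simp
  · right; rw [mul_one]

/-- the central involution of the dihedral group -/
theorem dih_normal {k : ℕ} (hk : 3 ≤ k) (W : Subgroup (DihedralGroup (2 ^ k))) [W.Normal] (h : ∀ w ∈ W, w * w = 1)
    {w : DihedralGroup (2 ^ k)} (hw : w ∈ W) : w = 1 ∨ w = DihedralGroup.r ((2 ^ (k - 1) : ℕ) : ZMod (2 ^ k)) := by
  cases w with
  | r i =>
    have h1 := h _ hw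
    rw [DihedralGroup.r_mul_r, DihedralGroup.one_def, DihedralGroup.r.injEq] at h1
    rcases zmod_half (by omega) h1 with h2 | h2
    · left; rw [h2, DihedralGroup.one_def]
    · right; rw [h2]
  | sr i => exact absurd hw (dih_no_sr hk W h i)

theorem dih_four {k : ℕ} (hk : 3 ≤ k) {w : DihedralGroup (2 ^ k)} (h1 : w * w ≠ 1) (h2 : (w * w) * (w * w) = 1) :
    w * w = DihedralGroup.r ((2 ^ (k - 1) : ℕ) : ZMod (2 ^ k)) := by
  cases w with
  | r i =>
    rw [DihedralGroup.r_mul_r] at h1 h2 ⊢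
    rw [DihedralGroup.r_mul_r, DihedralGroup.one_def, DihedralGroup.r.injEq] at h2
    rcases zmod_half (by omega) h2 with h3 | h3
    · exact absurd (by rw [h3, DihedralGroup.one_def]) h1
    · rw [h3]
  | sr i => exact absurd (by rw [DihedralGroup.sr_mul_self]) h1

end dih

/-! ### Groups with a dihedral Sylow subgroup -/

section sylow

variable {K : Type u} [Group K] {P : Subgroup K} {k : ℕ}

theorem map_half (hk : 3 ≤ k) (e : ↥P ≃* DihedralGroup (2 ^ k)) {W : Subgroup K} (hWP : W ≤ P)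
    (hn : ∀ s ∈ P, ∀ w ∈ W, s * w * s⁻¹ ∈ W) (h : ∀ w ∈ W, w * w = 1) {w : K} (hw : w ∈ W) (h1 : w ≠ 1) :
    e ⟨w, hWP hw⟩ = DihedralGroup.r ((2 ^ (k - 1) : ℕ) : ZMod (2 ^ k)) := by
  haveI hN : (W.subgroupOf P).Normal := by
    refine ⟨fun a ha s => ?_⟩
    rw [mem_subgroupOf] at ha ⊢
    exact hn s s.2 a ha
  haveI hN' : ((W.subgroupOf P).map e.toMonoidHom).Normal := hN.map _ e.surjective
  have h2 : ∀ v ∈ (W.subgroupOf P).map e.toMonoidHom, v * v = 1 := by
    rintro v ⟨a, ha, rfl⟩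
    rw [← map_mul]
    have : a * a = 1 := Subtype.ext (h _ (mem_subgroupOf.1 ha))
    rw [this, map_one]
  rcases dih_normal hk _ h2 (mem_map_of_mem e.toMonoidHom (mem_subgroupOf.2 hw : (⟨w, hWP hw⟩ : ↥P) ∈ _)) with h3 | h3
  · exfalso
    apply h1
    have h4 : (⟨w, hWP hw⟩ : ↥P) = 1 := (MulEquiv.map_eq_one_iff e).1 h3
    exact congrArg Subtype.val h4
  · exact h3

theorem eq_of_half (hk : 3 ≤ k) (e : ↥P ≃* DihedralGroup (2 ^ k)) {W : Subgroup K} (hWP : W ≤ P)
    (hn : ∀ s ∈ P, ∀ w ∈ W, s * w * s⁻¹ ∈ W) (h : ∀ w ∈ W, w * w = 1) {w w' : K} (hw : w ∈ W) (hw' : w' ∈ W)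
    (h1 : w ≠ 1) (h1' : w' ≠ 1) : w = w' := by
  have := (map_half hk e hWP hn h hw h1).trans (map_half hk e hWP hn h hw' h1').symm
  exact congrArg Subtype.val (e.injective this)

/-- the normalizer of a normal subgroup of `P` centralises the central involution of `P` -/
theorem normalizer_le (hk : 3 ≤ k) (e : ↥P ≃* DihedralGroup (2 ^ k)) {z : K} (hz : z ∈ P) (hz1 : z ≠ 1)
    (hz2 : z * z = 1) (hzc : ∀ s ∈ P, s * z = z * s) {R : Subgroup K} (hR : R ≤ P) (hR1 : R ≠ ⊥)
    (hn : ∀ s ∈ P, ∀ w ∈ R, s * w * s⁻¹ ∈ R) :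
    normalizer (R : Set K) ≤ centralizer ({z} : Set K) := by
  -- the image of `z`
  have ez : e ⟨z, hz⟩ = DihedralGroup.r ((2 ^ (k - 1) : ℕ) : ZMod (2 ^ k)) := by
    have hzm : ∀ w ∈ zpowers z, w * w = 1 := by
      rintro w ⟨j, rfl⟩
      change z ^ j * z ^ j = 1
      rw [← (Commute.refl z).mul_zpow, hz2, one_zpow]
    refine map_half hk e (W := zpowers z) (by rw [zpowers_le]; exact hz) ?_ hzm (mem_zpowers z) hz1
    rintro s hs w ⟨j, rfl⟩
    refine ⟨j, ?_⟩
    change z ^ j = s * z ^ j * s⁻¹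
    rw [← conj_zpow, hzc s hs, mul_inv_cancel_right]
  intro g hg
  rw [mem_centralizer_singleton_iff]
  have hg' : ∀ w ∈ R, g * w * g⁻¹ ∈ R := fun w hw => (mem_normalizer_iff.1 hg w).1 hw
  suffices h : g * z * g⁻¹ = z by
    calc g * z = (g * z * g⁻¹) * g := by group
      _ = z * g := by rw [h]
  by_cases hall : ∀ r ∈ R, r * r = 1
  · obtain ⟨r, hr, hr1⟩ := (ne_bot_iff_exists_ne_one.1 hR1 |> fun ⟨r, hr⟩ => ⟨r.1, r.2, fun h => hr (Subtype.ext h)⟩ :
      ∃ r ∈ R, r ≠ 1)
    have h1 := map_half hk e hR hn hall hr hr1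
    have h2 : r = z := congrArg Subtype.val (e.injective (h1.trans ez.symm))
    subst h2
    refine eq_of_half hk e hR hn hall (hg' _ hr) hr ?_ hr1
    intro h3
    apply hr1
    have h4 : r = g⁻¹ * (g * r * g⁻¹) * g := by group
    rw [h4, h3]; group
  · push Not at hall
    obtain ⟨x, hx, hxx⟩ := hall
    -- an element of order four in `R`
    obtain ⟨y, hy, hy1, hy2⟩ : ∃ y ∈ R, y * y ≠ 1 ∧ (y * y) * (y * y) = 1 := by
      haveI : Fact (Nat.Prime 2) := ⟨Nat.prime_two⟩
      have hP2 : IsPGroup 2 (DihedralGroup (2 ^ k)) := by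
        apply IsPGroup.of_card (n := k + 1)
        rw [DihedralGroup.nat_card, pow_succ']
      have hP2' : IsPGroup 2 ↥P := hP2.of_equiv e.symm
      obtain ⟨j, hj⟩ := hP2' ⟨x, hR hx⟩
      have hj' : x ^ 2 ^ j = 1 := congrArg Subtype.val hj
      have hex : ∃ j, x ^ 2 ^ j = 1 := ⟨j, hj'⟩
      classical
      have h1 := Nat.find_spec hex
      have h2 : ∀ i < Nat.find hex, x ^ 2 ^ i ≠ 1 := fun i hi => Nat.find_min hex hi
      have h3 : 2 ≤ Nat.find hex := by
        by_contra hcon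
        push Not at hcon
        have h4 : Nat.find hex = 0 ∨ Nat.find hex = 1 := by omega
        rcases h4 with h4 | h4
        · rw [h4, pow_zero, pow_one] at h1
          exact hxx (by rw [h1, mul_one])
        · rw [h4, pow_one, pow_two] at h1
          exact hxx h1
      obtain ⟨n, hn⟩ : ∃ n, Nat.find hex = n + 2 := ⟨Nat.find hex - 2, by omega⟩
      refine ⟨x ^ 2 ^ n, R.pow_mem hx _, ?_, ?_⟩
      · have := h2 (n + 1) (by omega)
        rwa [pow_succ, pow_mul, pow_two] at this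
      · have h5 : x ^ 2 ^ (n + 2) = x ^ 2 ^ n * x ^ 2 ^ n * (x ^ 2 ^ n * x ^ 2 ^ n) := by
          rw [← pow_add, ← pow_add]
          congr 1
          ring
        rw [← h5, ← hn]
        exact h1
    have key : ∀ v, ∀ hv : v ∈ R, v * v ≠ 1 → (v * v) * (v * v) = 1 → v * v = z := by
      intro v hv hv1 hv2
      have h1 : e ⟨v, hR hv⟩ * e ⟨v, hR hv⟩ = DihedralGroup.r ((2 ^ (k - 1) : ℕ) : ZMod (2 ^ k)) := by
        apply dih_four hk
        · rw [← map_mul]
          intro h3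
          exact hv1 (congrArg Subtype.val ((MulEquiv.map_eq_one_iff e).1 h3))
        · rw [← map_mul, ← map_mul]
          have : (⟨v, hR hv⟩ * ⟨v, hR hv⟩ * (⟨v, hR hv⟩ * ⟨v, hR hv⟩) : ↥P) = 1 := Subtype.ext hv2
          rw [this, map_one]
      rw [← map_mul, ← ez] at h1
      exact congrArg Subtype.val (e.injective h1)
    have h1 := key y hy hy1 hy2
    have h2 : (g * y * g⁻¹) * (g * y * g⁻¹) = g * (y * y) * g⁻¹ := by group
    have h3 := key (g * y * g⁻¹) (hg' y hy) (by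
      rw [h2]
      intro h4
      apply hy1
      have h5 : y * y = g⁻¹ * (g * (y * y) * g⁻¹) * g := by group
      rw [h5, h4]; group) (by
      rw [h2, show g * (y * y) * g⁻¹ * (g * (y * y) * g⁻¹) = g * ((y * y) * (y * y)) * g⁻¹ by group, hy2]
      group)
    rw [h2, h1] at h3
    exact h3

end sylow

/-! ### The row -/

theorem cent_eq {K : Type u} [Group K] {z : K} (P : Sylow 2 K) (hP : (P : Subgroup K) ≤ centralizer ({z} : Set K))
    (h2 : IsPGroup 2 ↥(centralizer ({z} : Set K))) : centralizer ({z} : Set K) = (P : Subgroup K) :=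
  P.3 h2 hP

theorem rowOne_psl2 {F : Type v} [Field F] [Fintype F] (ho : Odd (Fintype.card F)) (h11 : 11 ≤ Fintype.card F) :
    RowOne (Matrix.ProjectiveSpecialLinearGroup (Fin 2) F) := by
  rintro z ⟨hz, P, hP⟩ hcp W hW hzW hnW w hw ⟨α, hα⟩
  have hz1 : z ≠ 1 := by
    rintro rfl
    rw [orderOf_one] at hz
    omega
  have h2 := twoGroup_centralizer hz1 hcp
  have hPe := cent_eq P hP h2
  obtain ⟨k, hk, ⟨e⟩⟩ := dihedral_psl ho h11 P hP h2
  have hWP : W ≤ (P : Subgroup (Matrix.ProjectiveSpecialLinearGroup (Fin 2) F)) := by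
    rw [← hPe]
    intro v hv
    rw [mem_centralizer_singleton_iff]
    have e1 := hW _ (W.mul_mem hv hzW)
    have e2 := hW _ hv
    have e3 := hW _ hzW
    calc v * z = v * (v * z * (v * z)) * z := by rw [e1]; group
      _ = (v * v) * z * v * (z * z) := by group
      _ = z * v := by rw [e2, e3]; group
  refine eq_of_half hk e hWP ?_ hW hw hzW ?_ hz1
  · intro s hs v hv
    rw [← hPe] at hs
    exact (mem_normalizer_iff.1 (hnW hs) v).1 hv
  · intro h
    rw [h, MulEquiv.map_eq_one_iff] at hα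
    exact hz1 hα

theorem dihedral_equiv {K : Type u} [Group K] [Finite K] {F : Type v} [Field F] [Fintype F] (ho : Odd (Fintype.card F))
    (h11 : 11 ≤ Fintype.card F) (e : K ≃* Matrix.ProjectiveSpecialLinearGroup (Fin 2) F) {z : K} (P : Sylow 2 K)
    (hP : (P : Subgroup K) ≤ centralizer ({z} : Set K)) (h2 : IsPGroup 2 ↥(centralizer ({z} : Set K))) :
    ∃ k : ℕ, 3 ≤ k ∧ Nonempty (↥(P : Subgroup K) ≃* DihedralGroup (2 ^ k)) := by
  haveI : Fact (Nat.Prime 2) := ⟨Nat.prime_two⟩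
  have hcen : (centralizer ({z} : Set K)).map e.toMonoidHom =
      centralizer ({e z} : Set (Matrix.ProjectiveSpecialLinearGroup (Fin 2) F)) := by
    ext y
    constructor
    · rintro ⟨x, hx, rfl⟩
      rw [mem_centralizer_singleton_iff]
      change e x * e z = e z * e x
      rw [← map_mul, ← map_mul, mem_centralizer_singleton_iff.1 hx]
    · intro hy
      refine ⟨e.symm y, ?_, e.apply_symm_apply y⟩
      refine mem_centralizer_singleton_iff.2 (e.injective ?_)
      rw [map_mul, map_mul, e.apply_symm_apply]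
      exact mem_centralizer_singleton_iff.1 hy
  have hPm : ((P.mapSurjective (f := e.toMonoidHom) e.surjective :
      Sylow 2 (Matrix.ProjectiveSpecialLinearGroup (Fin 2) F)) : Subgroup _) =
      (P : Subgroup K).map e.toMonoidHom := rfl
  obtain ⟨k, hk, ⟨f⟩⟩ := dihedral_psl (z := e z) ho h11 (P.mapSurjective (f := e.toMonoidHom) e.surjective) (by
    rw [hPm, ← hcen]
    exact Subgroup.map_mono hP) (by
    rw [← hcen]
    exact h2.map _)
  exact ⟨k, hk, ⟨(e.subgroupMap (P : Subgroup K)).trans f⟩⟩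

theorem no2_psl2 : No2.{u} (fun K _ => ∃ (F : Type) (_ : Field F) (_ : Fintype F), Odd (Fintype.card F) ∧
    11 ≤ Fintype.card F ∧ Nonempty (K ≃* Matrix.ProjectiveSpecialLinearGroup (Fin 2) F)) := by
  rintro K _ _ _ S₁ P V hfib ⟨F, _, _, ho, h11, ⟨e⟩⟩
  haveI : Fact (Nat.Prime 2) := ⟨Nat.prime_two⟩
  -- a `P`-invariant involution of `S₁`
  obtain ⟨z, hzS, hz, hzP⟩ : ∃ z ∈ (S₁ : Subgroup K), orderOf z = 2 ∧ ∀ α ∈ P, α z = z := by
    letI act : MulAction ↥P ↥(S₁ : Subgroup K) :=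
      { smul := fun α s => ⟨(α : MulAut K) s, hfib.P_norm α α.2 s s.2⟩
        one_smul := fun s => Subtype.ext rfl
        mul_smul := fun α β s => Subtype.ext rfl }
    have h2 : 2 ∣ Nat.card ↥(S₁ : Subgroup K) := by
      obtain ⟨R, hR, hRS, -, -⟩ := hfib.loc
      obtain ⟨n, hn⟩ := IsPGroup.iff_card.1 S₁.2
      rcases Nat.eq_zero_or_pos n with h0 | h0
      · exfalso
        apply hR
        rw [h0, pow_zero] at hn
        have : (S₁ : Subgroup K) = ⊥ := Subgroup.card_eq_one.1 hn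
        exact le_bot_iff.1 (this ▸ hRS)
      · rw [hn]
        exact dvd_pow_self 2 (by omega)
    obtain ⟨b, hb, hb1⟩ := hfib.P_two.exists_fixed_point_of_prime_dvd_card_of_fixed_point
      (α := ↥(S₁ : Subgroup K)) h2 (a := 1) (fun α => Subtype.ext (map_one (α : MulAut K)))
    have hb' : ∀ α ∈ P, α (b : K) = b := fun α hα => congrArg Subtype.val (hb ⟨α, hα⟩)
    obtain ⟨j, hj⟩ := S₁.2 b
    have hj' : (b : K) ^ 2 ^ j = 1 := congrArg Subtype.val hj
    have hex : ∃ j, (b : K) ^ 2 ^ j = 1 := ⟨j, hj'⟩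
    classical
    have h1 := Nat.find_spec hex
    have h3 : Nat.find hex ≠ 0 := by
      intro h4
      rw [h4, pow_zero, pow_one] at h1
      exact hb1 (Subtype.ext h1.symm)
    obtain ⟨n, hn⟩ : ∃ n, Nat.find hex = n + 1 := ⟨Nat.find hex - 1, by omega⟩
    refine ⟨(b : K) ^ 2 ^ n, pow_mem b.2 _, ?_, fun α hα => by rw [map_pow, hb' α hα]⟩
    apply orderOf_eq_prime
    · rw [← pow_mul, ← pow_succ, ← hn]
      exact h1
    · exact Nat.find_min hex (by omega)
  have hz1 : z ≠ 1 := by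
    rintro rfl
    rw [orderOf_one] at hz
    omega
  have hz2 : z * z = 1 := by rw [← pow_two, ← hz, pow_orderOf_eq_one]
  have hzc : ∀ s ∈ (S₁ : Subgroup K), s * z = z * s := by
    intro s hs
    have h1 := hzP _ (hfib.conj_mem s hs)
    rw [MulAut.conj_apply] at h1
    calc s * z = (s * z * s⁻¹) * s := by group
      _ = z * s := by rw [h1]
  have h2 := hfib.fix z hzS hz hzP
  have hSz : (S₁ : Subgroup K) ≤ centralizer ({z} : Set K) := fun s hs =>
    mem_centralizer_singleton_iff.2 (hzc s hs)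
  have hCe := cent_eq S₁ hSz h2
  obtain ⟨k, hk, ⟨f⟩⟩ := dihedral_equiv ho h11 e S₁ hSz h2
  obtain ⟨R, hR, hRS, hRP, hRn⟩ := hfib.loc
  apply hRn
  have h3 := normalizer_le hk f hzS hz1 hz2 hzc hRS hR (fun s hs w hw => by
    have := hRP _ (hfib.conj_mem s hs) w hw
    rwa [MulAut.conj_apply] at this)
  rw [hCe] at h3
  exact h3.trans le_normalizer

end Cfsg.Agent.H585.TL
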